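import Mathlib

set_option autoImplicit false

/-!
A word table for `SL(3,2)` in two generators, with the images of the generators in `SU(3,3)`.
-/

namespace CfsgLib.UThreeThree

open Matrix

/-- The field with nine elements. -/
abbrev K9 : Type := QuadraticAlgebra (ZMod 3) 2 0

instance fact_K9 : Fact (∀ r : ZMod 3, r ^ 2 ≠ 2 + 0 * r) := ⟨by decide +kernel⟩

abbrev MatTwo : Type := Matrix (Fin 3) (Fin 3) (ZMod 2)

abbrev MatNine : Type := Matrix (Fin 3) (Fin 3) K9

/-- The two generators of `SL(3,2)`. -/
def gen : Bool → MatTwo
  | false => !![0, 1, 1; 1, 0, 1; 1, 1, 1]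
  | true => !![1, 1, 1; 0, 1, 0; 1, 1, 0]

/-- The images of the generators. -/
def genImg : Bool → MatNine
  | false => !![⟨0, 0⟩, ⟨0, 0⟩, ⟨0, 1⟩; ⟨0, 0⟩, ⟨1, 0⟩, ⟨0, 0⟩; ⟨0, 1⟩, ⟨0, 0⟩, ⟨0, 0⟩]
  | true => !![⟨2, 0⟩, ⟨2, 1⟩, ⟨0, 1⟩; ⟨0, 1⟩, ⟨2, 2⟩, ⟨1, 0⟩; ⟨1, 1⟩, ⟨0, 0⟩, ⟨2, 1⟩]

def genProd : List Bool → MatTwo
  | [] => 1
  | b :: w => gen b * genProd w

def imgProd : List Bool → MatNine
  | [] => 1
  | b :: w => genImg b * imgProd w

/-- The nine bits of a matrix. -/
def code (A : MatTwo) : ℕ :=
  (A 0 0).val + 2 * (A 0 1).val + 4 * (A 0 2).val + 8 * (A 1 0).val + 16 * (A 1 1).val +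
    32 * (A 1 2).val + 64 * (A 2 0).val + 128 * (A 2 1).val + 256 * (A 2 2).val

/-- Codes of the matrices with their words (binary digits from the lowest) and their images. -/
def table : List (ℕ × ℕ × ℕ) := [
  (84, 164, 51619428), (85, 44, 98763011), (86, 841, 180207803), (87, 154, 355785575), (92, 1099, 98658301),
  (93, 101, 51686784), (94, 211, 356017435), (95, 14, 180197731), (98, 41, 98386524), (99, 466, 51891227),
  (102, 237, 65514101), (103, 204, 126368309), (106, 11, 51996469), (107, 54, 98453304), (110, 459, 126252901),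
  (111, 136, 65483809), (114, 877, 355583467), (115, 81, 180641867), (116, 201, 126098701), (117, 294, 65668853),
  (122, 616, 180410083), (123, 21, 355573127), (124, 51, 65783809), (125, 34, 126067757), (140, 173, 93664098),
  (141, 361, 350803441), (142, 104, 56661313), (143, 58, 185431399), (156, 331, 56792321), (157, 91, 185186489),
  (158, 293, 93609792), (159, 38, 350787215), (161, 137, 56462868), (163, 475, 93993403), (165, 621, 106909963),
  (167, 588, 84800485), (169, 805, 184993661), (171, 273, 350996047), (172, 219, 84589115), (174, 102, 107236189),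
  (177, 26, 93861971), (179, 150, 56409282), (181, 197, 84915929), (183, 40, 106992743), (185, 232, 351241025),
  (187, 69, 184977811), (188, 147, 107121269), (190, 10, 84672547), (204, 658, 217508635), (205, 178, 4901068),
  (206, 333, 9570798), (207, 9, 305754067), (212, 694, 305666363), (213, 435, 9568368), (214, 418, 4842020),
  (215, 3, 217473383), (225, 730, 305727581), (226, 409, 217447381), (229, 20, 303625891), (230, 68, 219601595),
  (233, 205, 9684038), (234, 114, 4785642), (236, 5, 219658439), (239, 402, 303599891), (241, 306, 4787586),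
  (242, 589, 9624988), (244, 17, 303569011), (247, 438, 219575107), (249, 36, 217534637), (250, 12, 305692849),
  (253, 474, 219631951), (254, 869, 303543011), (266, 4, 86100005), (267, 218, 38213885), (270, 228, 43048935),
  (271, 357, 26286149), (273, 1, 43053283), (275, 179, 35854273), (277, 612, 86097843), (279, 162, 28650133),
  (281, 146, 26522371), (282, 50, 28413965), (285, 29, 38222795), (286, 77, 35858485), (298, 153, 43051149),
  (299, 116, 26530957), (302, 1611, 86106565), (303, 172, 37986625), (305, 57, 86095683), (307, 308, 28418501),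
  (309, 1755, 43059845), (311, 556, 36094709), (313, 182, 37977715), (314, 422, 36090497), (317, 43, 26294735),
  (318, 139, 28654669), (330, 166, 108712415), (331, 49, 94725162), (334, 950, 55729655), (335, 347, 82992929),
  (337, 325, 83203507), (339, 278, 183834925), (340, 72, 108589577), (342, 7, 352384643), (345, 155, 55398888),
  (346, 549, 352833125), (348, 52, 94925069), (351, 587, 183396611), (354, 18, 83080087), (355, 13, 55598215),
  (358, 360, 94674492), (359, 275, 108833689), (369, 617, 95056069), (370, 28, 183386215), (372, 90, 55347498),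
  (375, 100, 352592593), (377, 845, 108501775), (379, 731, 352394659), (380, 434, 83324261), (382, 25, 183594317),
  (394, 715, 127965323), (395, 86, 357382121), (396, 24, 63886975), (397, 19, 178600357), (401, 217, 64192627),
  (403, 145, 50558292), (405, 932, 99720913), (407, 329, 127694887), (409, 165, 178817911), (410, 59, 99450576),
  (412, 22, 50933317), (415, 203, 357180571), (417, 6, 127660217), (419, 37, 99826163), (421, 819, 50622156),
  (423, 83, 64071389), (425, 76, 357164669), (426, 233, 50828615), (428, 210, 99515016), (431, 109, 179045393),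
  (442, 365, 63922289), (443, 722, 178616531), (444, 332, 127844533), (445, 73, 357609535), (458, 1901, 3202011),
  (459, 180, 239226029), (460, 300, 334883947), (461, 209, 1653426), (465, 1865, 1607931), (467, 420, 325377301),
  (468, 108, 248851259), (470, 89, 3306798), (473, 45, 334885621), (474, 105, 248849531), (477, 82, 325311695),
  (478, 274, 239278513), (481, 75, 239224787), (482, 27, 325378489), (485, 118, 248785645), (486, 310, 334936439),
  (489, 467, 3247722), (491, 307, 248783917), (492, 229, 325312883), (494, 2, 1601127), (498, 356, 1712448),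
  (499, 115, 334938113), (500, 98, 239277271), (501, 8, 3195693)]

def bitsOf : ℕ → ℕ → List Bool
  | 0, _ => []
  | fuel + 1, n => if n ≤ 1 then [] else (n % 2 == 1) :: bitsOf fuel (n / 2)

def wordOf (A : MatTwo) : List Bool :=
  bitsOf 11 ((table.lookup (code A)).getD (1, 0)).1

def entryOf (n : ℕ) (i j : Fin 3) : K9 :=
  let d := n / 9 ^ (3 * i.val + j.val) % 9
  ⟨(d % 3 : ℕ), (d / 3 : ℕ)⟩

/-- The image of a matrix. -/
def imgOf (A : MatTwo) : MatNine :=
  Matrix.of (entryOf ((table.lookup (code A)).getD (1, 0)).2)

theorem genProd_wordOf : ∀ A : MatTwo, A.det = 1 → genProd (wordOf A) = A := by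
  decide +kernel

theorem imgOf_gen_mul : ∀ A : MatTwo, A.det = 1 → ∀ b,
    imgOf (gen b * A) = genImg b * imgOf A := by
  decide +kernel

theorem imgOf_spec : ∀ A : MatTwo, A.det = 1 →
    (imgOf A).det = 1 ∧ ((imgOf A).map fun x => x * x * x)ᵀ * imgOf A = 1 := by
  decide +kernel

theorem det_gen : ∀ b, (gen b).det = 1 := by decide +kernel

theorem imgOf_one : imgOf 1 = 1 := by decide +kernel

theorem genImg_not_commute : genImg false * genImg true ≠ genImg true * genImg false := by
  decide +kernel

end CfsgLib.UThreeThree
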