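import Cfsg.Agent.Lib.Classical.UThreeThree.Table
import Cfsg.Agent.Lib.Classical.Card
import Cfsg.Agent.Lib.Classical.Transvection
import Cfsg.Agent.Lib.SmallOrder.OneSixEightUnique

set_option autoImplicit false
set_option linter.style.haveILetI false

/-!
The homomorphism `SL(3,2) → GL(3,9)` of the table, and `SL(3,2) ≅ PSL(2,7)`.
-/

namespace CfsgLib.UThreeThree

open Matrix

theorem det_genProd : ∀ w, (genProd w).det = 1
  | [] => by simp [genProd]
  | b :: w => by rw [genProd, Matrix.det_mul, det_gen, det_genProd w, mul_one]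

theorem imgOf_genProd_mul : ∀ (w : List Bool) (B : MatTwo), B.det = 1 →
    imgOf (genProd w * B) = imgProd w * imgOf B
  | [], B, _ => by simp [genProd, imgProd]
  | b :: w, B, hB => by
    rw [genProd, imgProd, Matrix.mul_assoc, Matrix.mul_assoc,
      imgOf_gen_mul _ (by rw [Matrix.det_mul, det_genProd, hB, mul_one]), imgOf_genProd_mul w B hB]

theorem imgOf_mul (A B : MatTwo) (hA : A.det = 1) (hB : B.det = 1) :
    imgOf (A * B) = imgOf A * imgOf B := by
  have h := imgOf_genProd_mul (wordOf A)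
  rw [genProd_wordOf A hA] at h
  have h1 := h 1 (by simp)
  rw [Matrix.mul_one, imgOf_one, Matrix.mul_one] at h1
  rw [h B hB, h1]

/-- The homomorphism of the table. -/
def imgHom : Matrix.SpecialLinearGroup (Fin 3) (ZMod 2) →* MatNine where
  toFun A := imgOf A.1
  map_one' := imgOf_one
  map_mul' A B := imgOf_mul A.1 B.1 A.2 B.2

theorem imgHom_gen (b : Bool) : imgHom ⟨gen b, det_gen b⟩ = genImg b := by
  show imgOf (gen b) = genImg b
  have h := imgOf_gen_mul 1 (by simp) b
  rwa [Matrix.mul_one, imgOf_one, Matrix.mul_one] at h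

theorem isSimpleGroup_SL32 : IsSimpleGroup (Matrix.SpecialLinearGroup (Fin 3) (ZMod 2)) ∧
    Nat.card (Matrix.SpecialLinearGroup (Fin 3) (ZMod 2)) = 168 := by
  haveI : Fact (Nat.Prime 2) := ⟨Nat.prime_two⟩
  haveI : IsSimpleGroup (Matrix.ProjectiveSpecialLinearGroup (Fin 3) (ZMod 2)) :=
    CfsgLib.Classical.isSimpleGroup_PSL (by simp)
  have hz : Subgroup.center (Matrix.SpecialLinearGroup (Fin 3) (ZMod 2)) = ⊥ := by
    refine Subgroup.eq_bot_of_card_eq _ ?_
    rw [CfsgLib.Classical.card_center_SL, Nat.card_zmod]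
    rfl
  let e : Matrix.ProjectiveSpecialLinearGroup (Fin 3) (ZMod 2) ≃* Matrix.SpecialLinearGroup (Fin 3) (ZMod 2) :=
    (QuotientGroup.quotientMulEquivOfEq hz).trans QuotientGroup.quotientBot
  haveI : Nontrivial (Matrix.SpecialLinearGroup (Fin 3) (ZMod 2)) := e.symm.toEquiv.nontrivial
  refine ⟨e.symm.isSimpleGroup, ?_⟩
  have h := CfsgLib.Classical.sub_one_mul_card_SL (F := ZMod 2) (n := 3) (by norm_num)
  simp [-Nat.card_eq_fintype_card, Fin.prod_univ_three] at h
  omega

theorem nonempty_mulEquiv_PSL_two_seven {K : Type*} [Field K] [Fintype K]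
    (hK : Fintype.card K = 7) :
    Nonempty (Matrix.SpecialLinearGroup (Fin 3) (ZMod 2) ≃* Matrix.ProjectiveSpecialLinearGroup (Fin 2) K) := by
  classical
  obtain ⟨hs, hc⟩ := isSimpleGroup_SL32
  haveI := hs
  haveI : IsSimpleGroup (Matrix.ProjectiveSpecialLinearGroup (Fin 2) K) := by
    refine CfsgLib.Classical.isSimpleGroup_PSL (Or.inr ?_)
    by_contra h
    push Not at h
    have : (Finset.univ : Finset K) ⊆ {0, 1, -1} := fun x _ => by
      rcases eq_or_ne x 0 with rfl | hx
      · simp
      · have := h x hx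
        rcases sq_eq_one_iff.1 this with rfl | rfl <;> simp
    have := Finset.card_le_card this
    rw [Finset.card_univ, hK] at this
    exact absurd (this.trans (Finset.card_le_three)) (by norm_num)
  have hc2 : Nat.card (Matrix.ProjectiveSpecialLinearGroup (Fin 2) K) = 168 := by
    have h := CfsgLib.Classical.card_PSL_two (F := K)
    rw [hK] at h
    norm_num at h ⊢
    omega
  obtain ⟨e₁⟩ := CfsgLib.OneSixEight.nonempty_equiv_model hc
  obtain ⟨e₂⟩ := CfsgLib.OneSixEight.nonempty_equiv_model hc2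
  exact ⟨e₁.trans e₂.symm⟩

end CfsgLib.UThreeThree
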